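import Groth.Agent.AvramovLib.Localize
import Groth.Agent.FlatLoc6.TensorField
import Mathlib.RingTheory.AdjoinRoot
import Mathlib.RingTheory.RegularLocalRing.Polynomial

/-!
# The tensor product of two fields, one finitely generated, is a local complete intersection
-/

set_option autoImplicit false
set_option linter.style.haveILetI false

universe u

open IsLocalRing TensorProduct Polynomial
open scoped IntermediateField

namespace Groth.Agent.CIField6

/-- Every localization at a prime is a complete intersection. -/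
def IsLCI (R : Type u) [CommRing R] : Prop :=
  ∀ (p : Ideal R) [p.IsPrime], Pi1.IsCompleteIntersection (Localization.AtPrime p)

theorem isCI_of_isRegularLocalRing (R : Type u) [CommRing R] [IsRegularLocalRing R] :
    Pi1.IsCompleteIntersection R :=
  (CILib.isCI_iff_regular (RingHom.id R) Function.surjective_id).2 ⟨[], RingTheory.Sequence.IsRegular.nil R R,
    ((RingHom.injective_iff_ker_eq_bot (RingHom.id R)).1 Function.injective_id).trans Ideal.ofList_nil.symm⟩

theorem isLCI_of_isRegularRing (R : Type u) [CommRing R] [IsRegularRing R] : IsLCI R := fun p _ =>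
  haveI : IsRegularLocalRing (Localization.AtPrime p) :=
    isRegularRing_iff.1 inferInstance p
  isCI_of_isRegularLocalRing _

theorem isCI_of_ringEquiv {A A' : Type u} [CommRing A] [CommRing A'] [IsLocalRing A] [IsLocalRing A']
    [IsNoetherianRing A] (e : A ≃+* A') (h : Pi1.IsCompleteIntersection A) : Pi1.IsCompleteIntersection A' :=
  haveI : IsNoetherianRing A' := isNoetherianRing_of_ringEquiv A e
  (AvramovLib.isCI_ringEquiv_iff e).1 h

theorem isLCI_of_ringEquiv {R S : Type u} [CommRing R] [CommRing S] [IsNoetherianRing R] (e : R ≃+* S)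
    (h : IsLCI R) : IsLCI S := fun q _ => by
  haveI : (q.comap e).IsPrime := Ideal.IsPrime.comap e
  haveI : IsNoetherianRing (Localization.AtPrime (q.comap e)) :=
    IsLocalization.isNoetherianRing (q.comap e).primeCompl _ inferInstance
  refine isCI_of_ringEquiv ?_ (h (q.comap e))
  refine IsLocalization.ringEquivOfRingEquiv (M := (q.comap e).primeCompl) (T := q.primeCompl) (Localization.AtPrime (q.comap e)) (Localization.AtPrime q) e
    (Submonoid.ext fun y => ?_)
  simp only [Submonoid.mem_map, Ideal.mem_primeCompl_iff, Ideal.mem_comap]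
  exact ⟨fun ⟨x, hx, hxy⟩ => hxy ▸ hx, fun hy => ⟨e.symm y, by simpa using hy, e.apply_symm_apply y⟩⟩

/-- A simple extension of a field is a local complete intersection. -/
theorem isLCI_adjoinRoot_field (K : Type u) [CommRing K] (hK : IsField K) (g : K[X]) (hg : g.Monic) :
    IsLCI (AdjoinRoot g) := by
  letI := hK.toField
  intro q _
  let π : K[X] →+* AdjoinRoot g := AdjoinRoot.mk g
  obtain ⟨e⟩ := AvramovLib.exists_quot_localization_equiv π AdjoinRoot.mk_surjective q
  let R := Localization.AtPrime (q.comap π)
  haveI : IsRegularLocalRing R := isRegularRing_iff.1 inferInstance _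
  have hπ : Function.Surjective (e.toRingHom.comp (Ideal.Quotient.mk _)) :=
    e.surjective.comp Ideal.Quotient.mk_surjective
  refine (CILib.isCI_iff_regular _ hπ).2 ⟨[algebraMap K[X] R g], ?_, ?_⟩
  · have hne : algebraMap K[X] R g ≠ 0 := fun h => hg.ne_zero
      (IsLocalization.injective R (q.comap π).primeCompl_le_nonZeroDivisors (h.trans (map_zero _).symm))
    have hg' : g ∈ q.comap π := by
      show π g ∈ q
      rw [show π g = 0 from AdjoinRoot.mk_self]; exact q.zero_mem
    haveI : IsDomain R := IsLocalization.isDomain_localization (q.comap π).primeCompl_le_nonZeroDivisors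
    refine RingTheory.Sequence.IsRegular.of_isWeaklyRegular_of_mem_maximalIdeal R (rs := [algebraMap K[X] R g])
      (fun r hr => ?_) ((RingTheory.Sequence.isWeaklyRegular_cons_iff R (algebraMap K[X] R g) []).2
        ⟨fun a b h => mul_left_cancel₀ hne h, RingTheory.Sequence.IsWeaklyRegular.nil _ _⟩)
    rw [List.mem_singleton.1 hr]
    exact (IsLocalization.AtPrime.to_map_mem_maximal_iff R _ g).2 hg'
  · rw [← RingHom.comap_ker, (RingHom.injective_iff_ker_eq_bot e.toRingHom).1 e.injective, ← RingHom.ker_eq_comap_bot,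
      Ideal.mk_ker, Ideal.ofList_singleton]
    rw [show RingHom.ker π = Ideal.span {g} from Ideal.mk_ker, Ideal.map_span, Set.image_singleton]

/-- A flat extension with local complete intersection base and fibres is a local complete intersection. -/
theorem isLCI_of_fibres {A B : Type u} [CommRing A] [CommRing B] [Algebra A B] [IsNoetherianRing A] [IsNoetherianRing B]
    [Module.Flat A B] (hA : IsLCI A) (hfib : ∀ (p : Ideal A) [p.IsPrime], IsLCI (p.Fiber B)) : IsLCI B := by
  intro q _
  let p := q.comap (algebraMap A B)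
  haveI : q.LiesOver p := ⟨rfl⟩
  let R := Localization.AtPrime p
  let S := Localization.AtPrime q
  haveI : IsNoetherianRing R := IsLocalization.isNoetherianRing p.primeCompl _ inferInstance
  haveI : IsNoetherianRing S := IsLocalization.isNoetherianRing q.primeCompl _ inferInstance
  letI := Localization.AtPrime.algebraOfLiesOver p q
  haveI : IsLocalHom (algebraMap R S) := Localization.isLocalHom_localRingHom p q (algebraMap A B) Ideal.LiesOver.over
  haveI : Module.Flat R S := (Module.flat_iff_of_isLocalization R p.primeCompl S).2 inferInstance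
  have hI : (maximalIdeal R).map (algebraMap R S) = p.map (algebraMap A S) := by
    rw [← IsLocalization.AtPrime.map_eq_maximalIdeal p R, Ideal.map_map, ← IsScalarTower.algebraMap_eq]
  haveI := FlatLoc6.isLocalRing_fibLocRing (A := A) q
  let eI : (S ⧸ (maximalIdeal R).map (algebraMap R S)) ≃+* EGA4.FibLocRing A B q := Ideal.quotEquivOfEq hI
  haveI : IsLocalRing (S ⧸ (maximalIdeal R).map (algebraMap R S)) := eI.symm.isLocalRing
  refine AvramovLib.avramov.2 ⟨hA p, isCI_of_ringEquiv eI.symm ?_⟩
  obtain ⟨Q, hQ⟩ := FlatLoc6.exists_fiber_prime p q rfl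
  haveI : IsNoetherianRing (p.Fiber B) := FlatLoc6.isNoetherianRing_fiber p
  obtain ⟨f⟩ := FlatLoc6.exists_fibLocEquiv p Q.asIdeal
  haveI : IsNoetherianRing (Localization.AtPrime Q.asIdeal) :=
    IsLocalization.isNoetherianRing Q.asIdeal.primeCompl _ inferInstance
  have hg2 : ∀ (q' : Ideal B) [q'.IsPrime], Q.asIdeal.comap Algebra.TensorProduct.includeRight = q' →
      Nonempty (Localization.AtPrime Q.asIdeal ≃+* EGA4.FibLocRing A B q') := fun q' _ he => by
    subst he
    exact ⟨f⟩
  obtain ⟨f'⟩ := hg2 q hQ
  exact isCI_of_ringEquiv f' (hfib p Q.asIdeal)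

/-- A monogenic finite free extension of a local complete intersection is one. -/
theorem isLCI_adjoinRoot (C : Type u) [CommRing C] [IsNoetherianRing C] (g : C[X]) (hg : g.Monic) (h : IsLCI C) :
    IsLCI (AdjoinRoot g) := by
  haveI : Module.Free C (AdjoinRoot g) := hg.free_adjoinRoot
  haveI : Module.Finite C (AdjoinRoot g) := hg.finite_adjoinRoot
  haveI : IsNoetherianRing (AdjoinRoot g) := IsNoetherianRing.of_finite C _
  refine isLCI_of_fibres h fun p _ => ?_
  let g' : (p.ResidueField ⊗[C] C)[X] := g.map (Algebra.TensorProduct.includeRight (R := C) (A := p.ResidueField) (B := C)).toRingHom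
  have hF : IsField (p.ResidueField ⊗[C] C) :=
    (Algebra.TensorProduct.rid C C p.ResidueField).toMulEquiv.isField (Field.toIsField p.ResidueField)
  let et : p.Fiber (AdjoinRoot g) ≃+* AdjoinRoot g' :=
    (AdjoinRoot.tensorAlgEquiv (R := C) (T := p.ResidueField) g g' rfl).toRingEquiv
  haveI : IsNoetherianRing (p.Fiber (AdjoinRoot g)) := FlatLoc6.isNoetherianRing_fiber p
  haveI : IsNoetherianRing (AdjoinRoot g') := isNoetherianRing_of_ringEquiv _ et
  exact isLCI_of_ringEquiv et.symm (isLCI_adjoinRoot_field _ hF g' (hg.map _))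

variable (k K L : Type u) [Field k] [Field K] [Field L] [Algebra k K] [Algebra k L]

/-- The tensor product with a finitely generated field extension is a Noetherian local complete intersection. -/
theorem isLCI_tensor_field [Algebra.EssFiniteType k L] : IsNoetherianRing (K ⊗[k] L) ∧ IsLCI (K ⊗[k] L) := by
  obtain ⟨s, hs⟩ := exists_isTranscendenceBasis k L
  haveI : Finite s := by
    refine Cardinal.lt_aleph0_iff_finite.mp ?_
    rw [hs.cardinalMk_eq_trdeg]
    exact finTrdeg_iff_trdeg.mp inferInstance
  let F₀ := IntermediateField.adjoin k (Set.range ((↑) : s → L))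
  haveI : Algebra.IsAlgebraic F₀ L := hs.isAlgebraic_field
  haveI : Algebra.EssFiniteType F₀ L := Algebra.EssFiniteType.of_comp k F₀ L
  haveI : Module.Finite F₀ L := Algebra.finite_of_essFiniteType_of_isAlgebraic (F := F₀) (E := L)
  haveI hreg : IsRegularRing (K ⊗[k] F₀) :=
    haveI := FlatLoc6.isRegularRing_fractionRing_tensor k K s
    IsRegularRing.of_ringEquiv
      ((Algebra.TensorProduct.congr hs.1.aevalEquivField (AlgEquiv.refl (R := k) (A₁ := K))).toRingEquiv.trans
        (Algebra.TensorProduct.comm k F₀ K).toRingEquiv)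
  let P : IntermediateField F₀ L → Prop := fun E => IsNoetherianRing (K ⊗[k] E) ∧ IsLCI (K ⊗[k] E)
  have hbot : P ⊥ := by
    let e : (K ⊗[k] F₀) ≃+* (K ⊗[k] (⊥ : IntermediateField F₀ L)) :=
      (Algebra.TensorProduct.congr (AlgEquiv.refl (R := k) (A₁ := K))
        ((IntermediateField.botEquiv F₀ L).symm.restrictScalars k)).toRingEquiv
    haveI : IsNoetherianRing (K ⊗[k] F₀) := hreg.toIsNoetherian
    exact ⟨isNoetherianRing_of_ringEquiv (R := K ⊗[k] F₀) (S := K ⊗[k] (⊥ : IntermediateField F₀ L)) e, isLCI_of_ringEquiv (R := K ⊗[k] F₀) e (isLCI_of_isRegularRing _)⟩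
  have hstep : ∀ (E : IntermediateField F₀ L) (x : L), P E → P (E⟮x⟯.restrictScalars F₀) := by
    rintro E x ⟨hN, hE⟩
    have hx : IsIntegral E x := (Algebra.IsAlgebraic.isAlgebraic (R := F₀) x).isIntegral.tower_top
    let g := (minpoly E x).map (Algebra.TensorProduct.includeRight (R := k) (A := K) (B := E)).toRingHom
    have hgm : g.Monic := (minpoly.monic hx).map _
    haveI := hN
    haveI : Module.Finite (K ⊗[k] E) (AdjoinRoot g) := hgm.finite_adjoinRoot
    haveI : IsNoetherianRing (AdjoinRoot g) := IsNoetherianRing.of_finite (K ⊗[k] E) _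
    letI : Algebra k E⟮x⟯ := inferInstanceAs (Algebra k (E⟮x⟯.restrictScalars F₀))
    haveI : IsScalarTower k E E⟮x⟯ := IsScalarTower.of_algebraMap_eq fun _ => rfl
    let e : AdjoinRoot g ≃+* (K ⊗[k] (E⟮x⟯.restrictScalars F₀)) :=
      (AdjoinRoot.tensorAlgEquiv (R := k) (T := K) (minpoly E x) g rfl).symm.toRingEquiv.trans
        (Algebra.TensorProduct.congr (AlgEquiv.refl (R := k) (A₁ := K))
          ((IntermediateField.adjoinRootEquivAdjoin E hx).restrictScalars k)).toRingEquiv
    exact ⟨isNoetherianRing_of_ringEquiv _ e, isLCI_of_ringEquiv e (isLCI_adjoinRoot _ g hgm hE)⟩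
  obtain ⟨hN, h⟩ := IntermediateField.induction_on_adjoin P hbot hstep ⊤
  let e : (K ⊗[k] (⊤ : IntermediateField F₀ L)) ≃+* (K ⊗[k] L) :=
    (Algebra.TensorProduct.congr (AlgEquiv.refl (R := k) (A₁ := K))
      ((IntermediateField.topEquiv (F := F₀) (E := L)).restrictScalars k)).toRingEquiv
  exact ⟨isNoetherianRing_of_ringEquiv _ e, isLCI_of_ringEquiv e h⟩

end Groth.Agent.CIField6
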