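import Groth.Agent.CIField6.Basic
import Groth.Agent.FlatLoc6.FiberSelf
import Groth.Prelude.Def_Found

/-!
# Complete intersections and base change
-/

set_option autoImplicit false
set_option linter.style.haveILetI false

universe u

open IsLocalRing TensorProduct

namespace Groth.Agent.CIField6

/-- Base change of a local complete intersection along a finitely generated field extension. -/
theorem isLCI_baseChange_field (k K R : Type u) [Field k] [Field K] [Algebra k K] [Algebra.EssFiniteType k K]
    [CommRing R] [Algebra k R] [IsNoetherianRing R] (hR : IsLCI R) :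
    IsNoetherianRing (K ⊗[k] R) ∧ IsLCI (K ⊗[k] R) := by
  haveI : IsNoetherianRing (R ⊗[k] K) := Algebra.EssFiniteType.isNoetherianRing R _
  let c : (R ⊗[k] K) ≃+* (K ⊗[k] R) := (Algebra.TensorProduct.comm k R K).toRingEquiv
  refine ⟨isNoetherianRing_of_ringEquiv _ c, isLCI_of_ringEquiv c (isLCI_of_fibres hR fun p _ => ?_)⟩
  obtain ⟨e⟩ := FlatLoc6.exists_fiberTensorEquiv (k := k) (S := R) (T := K) p
  obtain ⟨hN, hL⟩ := isLCI_tensor_field k p.ResidueField K
  haveI := hN
  exact isLCI_of_ringEquiv e.symm hL

/-- The residue fields of a fibre ring are those of the ring. -/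
theorem bijective_residueField_map {A B : Type u} [CommRing A] [CommRing B] [Algebra A B] (q : Ideal A) [q.IsPrime]
    (P : Ideal (B ⊗[A] q.ResidueField)) [P.IsPrime] :
    Function.Bijective (Ideal.ResidueField.map (P.comap (algebraMap B (B ⊗[A] q.ResidueField))) P
      (algebraMap B (B ⊗[A] q.ResidueField)) rfl) := by
  let D := B ⊗[A] q.ResidueField
  let b := P.comap (algebraMap B D)
  let g := Ideal.ResidueField.map b P (algebraMap B D) rfl
  refine ⟨g.injective, fun z => ?_⟩
  have hg : ∀ x : B, g (algebraMap B b.ResidueField x) = algebraMap D P.ResidueField (algebraMap B D x) := fun x => by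
    simp [g, Ideal.ResidueField.map]
    rfl
  have hd : ∀ d : D, algebraMap D P.ResidueField d ∈ g.fieldRange := by
    intro d
    obtain ⟨r, hr, s, hrs⟩ := Ideal.ResidueField.exists_smul_eq_tmul_one (p := q) (S := B) d
    have hu : IsUnit (algebraMap A D r) := by
      have h0 : IsUnit (algebraMap A q.ResidueField r) := isUnit_iff_ne_zero.2 fun h => hr
        (Ideal.algebraMap_residueField_eq_zero.1 h)
      rw [← (Algebra.TensorProduct.includeRight (R := A) (A := B) (B := q.ResidueField)).commutes r]
      exact h0.map (Algebra.TensorProduct.includeRight (R := A) (A := B) (B := q.ResidueField))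
    have h1 : algebraMap D P.ResidueField (algebraMap B D s) =
        algebraMap D P.ResidueField (algebraMap A D r) * algebraMap D P.ResidueField d := by
      rw [← map_mul, ← Algebra.smul_def]
      exact (congrArg (algebraMap D P.ResidueField) hrs).symm
    rw [← mul_div_cancel_left₀ (algebraMap D P.ResidueField d) (hu.map (algebraMap D P.ResidueField)).ne_zero, ← h1,
      IsScalarTower.algebraMap_apply A B D]
    exact div_mem ⟨_, hg s⟩ ⟨_, hg _⟩
  obtain ⟨⟨a, c⟩, rfl⟩ : ∃ x : D × D, algebraMap D P.ResidueField x.1 / algebraMap D P.ResidueField x.2 = z := by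
    obtain ⟨n, m, -, e⟩ := IsFractionRing.div_surjective (A := D ⧸ P) z
    obtain ⟨n, rfl⟩ := Ideal.Quotient.mk_surjective n
    obtain ⟨m, rfl⟩ := Ideal.Quotient.mk_surjective m
    exact ⟨(n, m), e⟩
  exact RingHom.mem_fieldRange.1 (div_mem (hd a) (hd c))

/-- Composing a morphism with complete intersection fibres with a regular one. -/
theorem isLCI_fibre_comp {A B C : Type u} [CommRing A] [CommRing B] [CommRing C] [IsNoetherianRing A]
    [IsNoetherianRing B] [IsNoetherianRing C] [Algebra A B] [Algebra B C] [Algebra A C] [IsScalarTower A B C]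
    [Module.Flat B C] (hBC : CAlg.IsRegularHom B C) (q : Ideal A) [q.IsPrime] (hq : IsLCI (q.Fiber B)) :
    IsLCI (q.Fiber C) := by
  let D := B ⊗[A] q.ResidueField
  haveI : IsNoetherianRing (q.Fiber B) := FlatLoc6.isNoetherianRing_fiber q
  haveI : IsNoetherianRing (q.Fiber C) := FlatLoc6.isNoetherianRing_fiber q
  let cB : q.Fiber B ≃+* D := (Algebra.TensorProduct.comm A q.ResidueField B).toRingEquiv
  haveI : IsNoetherianRing D := isNoetherianRing_of_ringEquiv _ cB
  let E := D ⊗[B] C
  let cC : q.Fiber C ≃+* E :=
    (Algebra.TensorProduct.comm A q.ResidueField C).toRingEquiv.trans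
      ((Algebra.TensorProduct.cancelBaseChange A B C C q.ResidueField).symm.toRingEquiv.trans
        (Algebra.TensorProduct.comm B C D).toRingEquiv)
  haveI : IsNoetherianRing E := isNoetherianRing_of_ringEquiv _ cC
  refine isLCI_of_ringEquiv cC.symm (isLCI_of_fibres (A := D) (isLCI_of_ringEquiv cB hq) fun P _ => ?_)
  let b := P.comap (algebraMap B D)
  let g := Ideal.ResidueField.map b P (algebraMap B D) rfl
  let eg : b.ResidueField ≃ₐ[B] P.ResidueField := AlgEquiv.ofRingEquiv
    (f := RingEquiv.ofBijective g (bijective_residueField_map q P)) fun x => by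
      show g (algebraMap B b.ResidueField x) = _
      rw [IsScalarTower.algebraMap_apply B D P.ResidueField]
      simp [g, Ideal.ResidueField.map]
  obtain ⟨hN, hreg⟩ := hBC.2 b
  haveI : IsRegularRing (b.Fiber C) :=
    haveI := hreg b.ResidueField inferInstance
    IsRegularRing.of_ringEquiv (R := b.ResidueField ⊗[b.ResidueField] b.Fiber C)
      (Algebra.TensorProduct.lid b.ResidueField (b.Fiber C)).toRingEquiv
  let e : b.Fiber C ≃+* P.Fiber E :=
    (Algebra.TensorProduct.congr eg (AlgEquiv.refl (R := B) (A₁ := C))).toRingEquiv.trans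
      (Algebra.TensorProduct.cancelBaseChange B D P.ResidueField P.ResidueField C).symm.toRingEquiv
  exact isLCI_of_ringEquiv e (isLCI_of_isRegularRing _)

end Groth.Agent.CIField6
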